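import Cfsg.Agent.H24.He.Flip
import Cfsg.Agent.H43.Basic
import Cfsg.Agent.H8.StrongEmb

/-! The Sylow subgroup, the two elementary abelian subgroups of order 64, control of fusion. -/

set_option autoImplicit false
set_option maxRecDepth 100000

namespace Cfsg.Agent.H24.He

open Cfsg.Agent.H14 Subgroup

def c12 : ℕ := 17043523
def c13 : ℕ := 17043525
def c14 : ℕ := 17043529
def c23 : ℕ := 17043649
def c24 : ℕ := 17043777
def c25 : ℕ := 17044033
def c34 : ℕ := 17051713
def c35 : ℕ := 17059905
def c45 : ℕ := 17567809
/-- `1 + E₀₃ + E₁₄` -/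
def ct : ℕ := 17044041
/-- `1 + E₀₄ + E₁₃` -/
def ct' : ℕ := 17043793
def ca1 : ℕ := 17043781
def ca2 : ℕ := 17060161

/-- the codes commute -/
noncomputable def cmm (a b : ℕ) : Bool := Nat.beq (mulN a b) (mulN b a)

theorem cmm_iff {a b : ℕ} : cmm a b = true ↔ mulN a b = mulN b a := Nat.beq_eq.to_iff

noncomputable def sq (a : ℕ) : ℕ := force a fun a => mulN a a

theorem sq_eq (a : ℕ) : sq a = mulN a a := force_eq _ _

def ixT (n : ℕ) : ℕ := Nat.lor (Nat.lor (Nat.land (Nat.shiftRight n 1) 15) (Nat.land (Nat.shiftRight n 3) 112))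
  (Nat.lor (Nat.land (Nat.shiftRight n 6) 384) (Nat.land (Nat.shiftRight n 10) 512))

def clsTab : ℕ := 0x8888888888888888888888888888888888888888888888888888888888888888888888888888888888888888888888888888888888888888888888888888888887888887878888878888888888888888888888888888888884484882844848828788888787888887888888888888888888888888888888884488884244888842888888888888888888888888888888888888888888888888888888888888888888888888888888888888888888888888888888888888888888888888888888888888888888888888888888888888888888888787888887874848848248488482888888888888888888888888888888888888878788888787888844428888444288888888888888886883688568856883888888888888888888878887888788878888888888888888888788878887888788888888888888888863886588658863888888888888888888878887888788878888888888888888488448824884488288888888888888888887888788878887888888888888888888448842884488428888888888888888888788878887888788888888888888888887888788878887888888888888888868856885688368838888888888888888886588658863886383868685858686838683868586858683868683858686858384848482848484828586868583868683868586858683868386868585868683831111111011111118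
def witTab : ℕ := 0x438810c0000000000000000000000000000001062149000000418852c000000000000000000000000000000106214100000000000000000000000000000000000000000000000000000000000000000000000000000000000000000000000000000000000000000000000000000000000000000000000000000000000000000000000000000000000000000000000000000000000000418a4260a62120000008198848000000000001062909000000418a4060a62020000008198808000000000001062901000000438852c0000000000000000000000000000001062049000000418810c000000000000000000000000000000106204100000000000000000000000000000000000000000000000000000000000000000000000000000000000000000000000000000000000000000000000000000000000000000000000000000000000000000000000000000000000000000000000000000000839884c1824240000000000000000000000002026213060909839880c182404000000000000000000000000202620306090100000000000000000000000000000000000000000000000000000000000000000000000000000000000000000000000000000000000000000000000000000000000000000000000000000000000000000000000000000000000000000000000000000000000000000000000000000000000000000000000000000000000000000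000000000000000000000000000000000000000000000000000000000000000000000000000000000000000000000000000000000000000000000000000000000000000000000000000000000000000000000000000000000000000000000000000000000000000000000000000000000000000000000000000000000000000000000000000000000000000000000000000000000000000000000000000000000000000000000000000000000000000000000000000000000000000000000000000000000000000000000000000000000000000000000000000000000000000000000000000000000000000000000000000000000000000000000000000000000000000000000000000000000000000000000000000000000000000000000000000000000000000000000000000000000000000000000000000000000000000000000000000000000000000000000000000000000000000000000000000000000000000000000000000000000000000000000000000000000000000000000000000000428810c0000010221490000000000000000000000000000000408852c00000102214183888480000020a2212000000000000408a42400000102290983888080000020a2202000000000000408a404000001022901000000000000000000000000000000000000000000000000000000000000000000000000000000000000000000000000000000000000000000000000000000000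000000000000000000000000000000000000000000000000000000000000000000000000000000000000000000000000000000428852c0000010220490000000000000000000000000000000408810c0000010220410000000000000000000000000818884c0824260222130209090000000000000000000000000818880c0824060222030209010000000000000000000000000000000000000000000000000000000000000000000000000000000000000000000000000000860c4280000000000010c1885861c4280000000000010c1881861c4080000000000010c1885860c4080000000000010c1881000000000000000000000000000000000000000000000000000000000000000000000000000000000000000000000000000000000000000000000010c088500000000000000000010408c300000000000000000010408c700000000000000000010408c1000000000000000000000000000000000000000000000000000000000000000000000000000000000000000000000000000000000000000000000010c18850000000000000000001041847000000000000000000104184300000000000000000010418410000000000000000000000000000000000000000000000000000000000000000000000000000000000000000000000000000000000000000218110b0c0885000000000000218510b0c088100000000000021851030c088500000000000021811030c08810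00000000000000000000000000000000000000000000000000000000000000000000000000000000000000000000000000000000000000000000010c104300000000000000000010410c500000000000000000010410c700000000000000000010410c100000000000000000000000000000000000000000000000000000000000000000000000000000000000000000000000000008390428000000000001041885819042800000000000104188583904080000000000010418818190408000000000001041881000000000000000000000000000000000000000000000000000000000000000000000000000000000000000000000000000000000000000000000010c10c7000000000000000000104104500000000000000000010410430000000000000000001041041000000000000000000000000000000000000000000000000000000000000000000000000000000000000000000000000000000000000000020a410b040885000000000000202410b04088500000000000020a41030408810000000000002024103040881000000000000000000000000000000000000000000000000000000000000000000000000000000000000000000000000000000000000000000000010418830000000000000000001041887000000000000000000104188500000000000000000010418810000000000000000000000000000000000000000000000000000000000000000000000000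00000000000000000000000000000000000000000000010408870000000000000000001040883000000000000000000104088500000000000000000010408810000000000000000000000000000000000000000000000000000000000000000000000000000000000000000000000000000823c408000000000001041885822d408000000000001041881820c428000000000001041885820c4080000000000010418810000000000000000000000000000000000000000000000000000000000000000000000000000000000000000000000000000000000000000208d1030408850000000000002089103040881000000000000208110b0408850000000000002081103040881000000438810c0000010e6041000000438810c0000010e2041000000438810c0000010e2041000000439810c0000010e2041000000430410c0000010c1043000000430c10c0000010c1041000000430c1040000010c104300000043041040000010c1041000000428810c0000010a6041000000428810c0000010a2041000000428c1040000010a2041000000428810c0000010a2041000000418810c000001041043000000408810c00000104104300000041881040000010410410000004088104000001041041000000418810c000001066041000000419810c000001062041000000418810c000001062041000000418810c000001062041000000411c1040000010410430000004114104000001041041000000410410c0000010410430000004104104000001041041000000409810c000001026041000000408810c000001022041000000408810c000001022041000000408810c000001022041879040c3881061a41030c1041859040c288106124103041041839040c1881060a4103041041819040c088106024102000000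

/-- the number of the class in the centraliser of an involution of the Sylow subgroup; 8 otherwise -/
def cls (n : ℕ) : ℕ := Nat.land (Nat.shiftRight clsTab (Nat.mul 4 (ixT n))) 15

def witN (n : ℕ) : ℕ := Nat.land (Nat.shiftRight witTab (Nat.mul 25 (ixT n))) 33554431

def rep (c : ℕ) : ℕ := [cz, c14, c25, c24, ct, ct', ca1, ca2].getD c cI

theorem cls_chk : pT.all (fun u => cond (Nat.beq (cls u) 8) (!Nat.beq (sq u) cI || Nat.beq u cI)
    (Nat.blt (cls u) 8 && okH (witN u) &&
      Nat.beq (mulN (witN u) u) (mulN (rep (cls u)) (witN u)))) = true := by decide +kernel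

theorem ok_rep : ∀ c < 8, okH (rep c) = true := by decide +kernel

theorem pow8_chk : pT.all (fun u => Nat.beq (sq (sq (sq u))) cI) = true := by decide +kernel

theorem center_chk : pT.all (fun u => bimp (cmm u c12 && cmm u c23 && cmm u c34 && cmm u c45)
    (Nat.beq u cI || Nat.beq u cz)) = true := by decide +kernel

theorem normT_chk : allH (fun n => pT.mem n || !pT.mem (cj n c23) || !pT.mem (cj n c34)) = true := by
  decide +kernel

theorem e64_chk : pT.all (fun t => pA.mem t || pB.mem t || !Nat.beq (sq t) cI ||
    Nat.blt (pT.cnt fun u => Nat.beq (sq u) cI && cmm t u) 64) = true := by decide +kernel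

theorem cenA_chk : allH (fun n => bimp (cmm n c23 && cmm n c24 && cmm n c13 && cmm n c14 && cmm n c25)
    (pA.mem n)) = true := by decide +kernel

theorem normA_chk : allL pT.ps (fun k => Nat.beq (sq (gen k)) cI &&
    (pA.all fun v => pA.mem (ci (gen k) v)) && pB.all fun v => pB.mem (ci (gen k) v)) = true := by
  decide +kernel

theorem AB_chk : (pA.all fun v => pT.mem v && pJ.mem v && Nat.beq (sq v) cI &&
      pA.all fun w => cmm v w) = true ∧
    (pB.all fun v => pT.mem v && pJ.mem v && Nat.beq (sq v) cI && pB.all fun w => cmm v w) = true ∧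
    (pJ.all fun v => pT.mem v && pW.all fun w => cmm v w) = true ∧
    (pW.all fun v => pA.mem v && pB.mem v) = true ∧ (pA.all fun v => bimp (pB.mem v) (pW.mem v)) = true := by
  decide +kernel

/-- commutator of two involutions -/
noncomputable def cm (a b : ℕ) : ℕ := sq (mulN a b)

theorem rank_chk : (pA.all fun a => pB.all fun b => force (cm a b) fun w =>
    !Nat.beq w ct && !Nat.beq w ct') = true := by decide +kernel

theorem A_T {v : ℕ} (h : pA.mem v = true) : pT.mem v = true := by
  have := Pat.all_iff.1 AB_chk.1 v h
  simp only [Bool.and_eq_true] at this; exact this.1.1.1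
theorem A_J {v : ℕ} (h : pA.mem v = true) : pJ.mem v = true := by
  have := Pat.all_iff.1 AB_chk.1 v h
  simp only [Bool.and_eq_true] at this; exact this.1.1.2
theorem A_sq {v : ℕ} (h : pA.mem v = true) : mulN v v = cI := by
  have := Pat.all_iff.1 AB_chk.1 v h
  simp only [Bool.and_eq_true, Nat.beq_eq, sq_eq] at this; exact this.1.2
theorem A_comm {v w : ℕ} (h : pA.mem v = true) (h' : pA.mem w = true) : mulN v w = mulN w v := by
  have := Pat.all_iff.1 AB_chk.1 v h
  simp only [Bool.and_eq_true, Pat.all_iff, cmm_iff] at this; exact this.2 w h'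
theorem B_T {v : ℕ} (h : pB.mem v = true) : pT.mem v = true := by
  have := Pat.all_iff.1 AB_chk.2.1 v h
  simp only [Bool.and_eq_true] at this; exact this.1.1.1
theorem B_J {v : ℕ} (h : pB.mem v = true) : pJ.mem v = true := by
  have := Pat.all_iff.1 AB_chk.2.1 v h
  simp only [Bool.and_eq_true] at this; exact this.1.1.2
theorem B_sq {v : ℕ} (h : pB.mem v = true) : mulN v v = cI := by
  have := Pat.all_iff.1 AB_chk.2.1 v h
  simp only [Bool.and_eq_true, Nat.beq_eq, sq_eq] at this; exact this.1.2
theorem B_comm {v w : ℕ} (h : pB.mem v = true) (h' : pB.mem w = true) : mulN v w = mulN w v := by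
  have := Pat.all_iff.1 AB_chk.2.1 v h
  simp only [Bool.and_eq_true, Pat.all_iff, cmm_iff] at this; exact this.2 w h'
theorem J_T {v : ℕ} (h : pJ.mem v = true) : pT.mem v = true := by
  have := Pat.all_iff.1 AB_chk.2.2.1 v h
  simp only [Bool.and_eq_true] at this; exact this.1
theorem J_W_comm {v w : ℕ} (h : pJ.mem v = true) (h' : pW.mem w = true) : mulN v w = mulN w v := by
  have := Pat.all_iff.1 AB_chk.2.2.1 v h
  simp only [Bool.and_eq_true, Pat.all_iff, cmm_iff] at this; exact this.2 w h'
theorem W_A {v : ℕ} (h : pW.mem v = true) : pA.mem v = true := by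
  have := Pat.all_iff.1 AB_chk.2.2.2.1 v h
  simp only [Bool.and_eq_true] at this; exact this.1
theorem W_B {v : ℕ} (h : pW.mem v = true) : pB.mem v = true := by
  have := Pat.all_iff.1 AB_chk.2.2.2.1 v h
  simp only [Bool.and_eq_true] at this; exact this.2
theorem W_of {v : ℕ} (h : pA.mem v = true) (h' : pB.mem v = true) : pW.mem v = true :=
  bimp_iff.1 (Pat.all_iff.1 AB_chk.2.2.2.2 v h) h'

namespace Setup
variable {G : Type*} [Group G] (S : Setup G)

theorem f_sq' {a : ℕ} (ha : okH a = true) : S.f (sq a) = S.f a * S.f a := by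
  rw [sq_eq, S.f_mul ha ha]

theorem ok_sq {a : ℕ} (ha : okH a = true) : okH (sq a) = true := by
  rw [sq_eq]; exact ok_mul ha ha

theorem cls_spec {u : ℕ} (hu : pT.mem u = true) (h2 : S.f u * S.f u = 1) (h1 : S.f u ≠ 1) :
    cls u < 8 ∧ ∃ h, okH h = true ∧ S.f h * S.f u * (S.f h)⁻¹ = S.f (rep (cls u)) := by
  have h := Pat.all_iff.1 cls_chk u hu
  have ou := Pat.okH_of hu
  cases h8 : Nat.beq (cls u) 8
  · rw [h8] at h
    simp only [cond_false, Bool.and_eq_true, Nat.blt_eq, Nat.beq_eq] at h
    exact ⟨h.1.1, _, h.1.2, S.conj_of_mul h.1.2 ou (ok_rep _ h.1.1) h.2⟩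
  · rw [h8] at h
    simp only [cond_true, Bool.or_eq_true, Bool.not_eq_true', Nat.beq_eq] at h
    rcases h with h | h
    · rw [← S.f_sq' ou, S.f_eq_one (ok_sq ou)] at h2
      rw [h2] at h
      exact absurd h (by decide)
    · exact absurd (h ▸ S.f_cI) h1

theorem cls_of_lt {u : ℕ} (hu : pT.mem u = true) (h8 : cls u < 8) :
    ∃ h, okH h = true ∧ S.f h * S.f u * (S.f h)⁻¹ = S.f (rep (cls u)) := by
  have h := Pat.all_iff.1 cls_chk u hu
  have h9 : Nat.beq (cls u) 8 = false := by
    rw [← Bool.not_eq_true, Nat.beq_eq]; omega
  rw [h9] at h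
  simp only [cond_false, Bool.and_eq_true, Nat.blt_eq, Nat.beq_eq] at h
  exact ⟨_, h.1.2, S.conj_of_mul h.1.2 (Pat.okH_of hu) (ok_rep _ h.1.1) h.2⟩

theorem isConj_rep {u : ℕ} (hu : pT.mem u = true) (h8 : cls u < 8) :
    IsConj (S.f u) (S.f (rep (cls u))) := by
  obtain ⟨h, -, e⟩ := S.cls_of_lt hu h8
  exact isConj_iff.2 ⟨_, e⟩

theorem cenA {g : G} (h : ∀ k ∈ pA.ps, g * S.f (gen k) = S.f (gen k) * g) :
    ∃ b, pA.mem b = true ∧ S.f b = g := by
  obtain ⟨n, hn, rfl⟩ := S.exists_f (h 4 (by decide))
  refine ⟨n, bimp_iff.1 (allH_spec cenA_chk hn) ?_, rfl⟩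
  simp only [Bool.and_eq_true, cmm_iff]
  refine ⟨⟨⟨⟨?_, ?_⟩, ?_⟩, ?_⟩, ?_⟩
  · exact (S.f_comm_iff hn (by decide +kernel)).1 (h 7 (by decide))
  · exact (S.f_comm_iff hn (by decide +kernel)).1 (h 8 (by decide))
  · exact (S.f_comm_iff hn (by decide +kernel)).1 (h 2 (by decide))
  · exact (S.f_comm_iff hn (by decide +kernel)).1 (h 3 (by decide))
  · exact (S.f_comm_iff hn (by decide +kernel)).1 (h 9 (by decide))

variable [Finite G]

theorem isPGroup_T : IsPGroup 2 (S.pat pT) := by
  rintro ⟨_, n, hn, rfl⟩
  refine ⟨3, Subtype.ext ?_⟩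
  have h := Pat.all_iff.1 pow8_chk n hn
  have o := Pat.okH_of hn
  rw [Nat.beq_eq] at h
  have h2 := congrArg S.f h
  rw [S.f_sq' (ok_sq (ok_sq o)), S.f_sq' (ok_sq o), S.f_sq' o, S.f_cI] at h2
  change S.f n ^ 2 ^ 3 = 1
  rw [← h2]
  simp only [show 2 ^ 3 = 8 from rfl, pow_succ, pow_zero, one_mul, mul_assoc]

theorem eq_z_of_central {g : G} (hg : g ∈ S.pat pT) (h1 : g ≠ 1)
    (hc : ∀ t ∈ S.pat pT, g * t = t * g) : g = S.f cz := by
  obtain ⟨n, hn, rfl⟩ := hg
  have o := Pat.okH_of hn
  have h := bimp_iff.1 (Pat.all_iff.1 center_chk n hn) (by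
    simp only [Bool.and_eq_true, cmm_iff]
    refine ⟨⟨⟨?_, ?_⟩, ?_⟩, ?_⟩ <;>
      exact (S.f_comm_iff o (by decide +kernel)).1 (hc _ (S.f_mem_pat (by decide +kernel))))
  simp only [Bool.or_eq_true, Nat.beq_eq] at h
  rcases h with rfl | rfl
  · exact absurd S.f_cI h1
  · rfl

theorem T_comm_z {t : G} (ht : t ∈ S.pat pT) : t * S.f cz = S.f cz * t := by
  obtain ⟨n, hn, rfl⟩ := ht
  exact S.f_comm_z (Pat.okH_of hn)

theorem z_mem_T : S.f cz ∈ S.pat pT := S.f_mem_pat (by decide +kernel)

theorem normalizer_T : normalizer (S.pat pT : Set G) ≤ S.pat pT := by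
  intro g hg
  have h1 : g * S.f cz * g⁻¹ = S.f cz := by
    refine S.eq_z_of_central (H43.conj_mem_of_mem_normalizer hg S.z_mem_T) ?_ ?_
    · intro h
      exact S.z_ne_one (by simpa using h)
    · intro t ht
      have := S.T_comm_z (H43.inv_conj_mem_of_mem_normalizer hg ht)
      have h2 := congrArg (fun x => g * x * g⁻¹) this
      simpa [mul_assoc] using h2.symm
  obtain ⟨n, hn, rfl⟩ := S.exists_f (g := g) (mul_inv_eq_iff_eq_mul.1 h1)
  have h := allH_spec normT_chk hn
  have o23 : okH c23 = true := by decide +kernel
  have o34 : okH c34 = true := by decide +kernel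
  have h2 := H43.conj_mem_of_mem_normalizer hg (S.f_mem_pat (P := pT) (n := c23) (by decide +kernel))
  have h3 := H43.conj_mem_of_mem_normalizer hg (S.f_mem_pat (P := pT) (n := c34) (by decide +kernel))
  rw [← S.f_cj hn o23, S.f_mem_pat_iff (ok_cj hn o23)] at h2
  rw [← S.f_cj hn o34, S.f_mem_pat_iff (ok_cj hn o34)] at h3
  rw [h2, h3] at h
  exact S.f_mem_pat (by simpa using h)

theorem exists_syl : ∃ P : Sylow 2 G, (P : Subgroup G) = S.pat pT :=
  H8.exists_sylow_eq_of_maximal S.isPGroup_T S.normalizer_T fun _ _ h1 h2 => le_antisymm h2 h1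

/-- the Sylow subgroup -/
noncomputable def syl : Sylow 2 G := S.exists_syl.choose

theorem syl_eq : (S.syl : Subgroup G) = S.pat pT := S.exists_syl.choose_spec

theorem card_A : Nat.card (S.pat pA) = 64 := by rw [S.card_pat]; decide +kernel
theorem card_B : Nat.card (S.pat pB) = 64 := by rw [S.card_pat]; decide +kernel
theorem card_T : Nat.card (S.pat pT) = 1024 := by rw [S.card_pat]; decide +kernel

theorem e64 {E : Subgroup G} (hT : E ≤ S.pat pT) (h2 : ∀ x ∈ E, x * x = 1)
    (hc : ∀ x ∈ E, ∀ y ∈ E, x * y = y * x) (h64 : Nat.card E = 64) :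
    E = S.pat pA ∨ E = S.pat pB := by
  have key : ∀ x ∈ E, x ∈ S.pat pA ∨ x ∈ S.pat pB := by
    intro x hx
    obtain ⟨t, ht, rfl⟩ := hT hx
    have ot := Pat.okH_of ht
    have h := Pat.all_iff.1 e64_chk t ht
    simp only [Bool.or_eq_true, Bool.not_eq_true', Nat.blt_eq] at h
    rcases h with ((h | h) | h) | h
    · exact Or.inl (S.f_mem_pat h)
    · exact Or.inr (S.f_mem_pat h)
    · have := h2 _ hx
      rw [← S.f_sq' ot, S.f_eq_one (ok_sq ot)] at this
      rw [this] at h
      exact absurd h (by decide)
    · exfalso
      rw [← S.ncard_pat] at h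
      refine absurd (Set.ncard_le_ncard (s := (E : Set G))
        (t := {g | ∃ n, pT.mem n = true ∧ (Nat.beq (sq n) cI && cmm t n) = true ∧ S.f n = g}) ?_
        (Set.toFinite _)) ?_
      · intro y hy
        obtain ⟨u, hu, rfl⟩ := hT hy
        have ou := Pat.okH_of hu
        refine ⟨u, hu, ?_, rfl⟩
        rw [Bool.and_eq_true, Nat.beq_eq, cmm_iff, ← S.f_eq_one (ok_sq ou), S.f_sq' ou,
          ← S.f_comm_iff ot ou]
        exact ⟨h2 _ hy, hc _ hx _ hy⟩
      · rw [← Nat.card_coe_set_eq (E : Set G)]
        change ¬ Nat.card E ≤ _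
        omega
  by_cases hA : E ≤ S.pat pA
  · exact Or.inl (Subgroup.eq_of_le_of_card_ge hA (by rw [h64, S.card_A]))
  · right
    refine Subgroup.eq_of_le_of_card_ge ?_ (by rw [h64, S.card_B])
    obtain ⟨a, ha, ha'⟩ := SetLike.not_le_iff_exists.1 hA
    have haB := (key a ha).resolve_left ha'
    intro b hb
    rcases key b hb with h | h
    · rcases key _ (E.mul_mem ha hb) with h3 | h3
      · exact absurd ((Subgroup.mul_mem_cancel_right _ h).1 h3) ha'
      · exact (Subgroup.mul_mem_cancel_left _ haB).1 h3
    · exact h

theorem T_le_normA : S.pat pT ≤ normalizer (S.pat pA : Set G) := by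
  refine S.pat_le fun k hk => H43.mem_normalizer_of_conj_mem ?_
  rintro _ ⟨v, hv, rfl⟩
  have h := allL_iff.1 normA_chk k hk
  simp only [Bool.and_eq_true, Nat.beq_eq, sq_eq, Pat.all_iff] at h
  rw [← S.f_ci (Pat.okH_of (Pat.mem_gen hk)) h.1.1 (Pat.okH_of hv)]
  exact S.f_mem_pat (h.1.2 v hv)

theorem T_le_normB : S.pat pT ≤ normalizer (S.pat pB : Set G) := by
  refine S.pat_le fun k hk => H43.mem_normalizer_of_conj_mem ?_
  rintro _ ⟨v, hv, rfl⟩
  have h := allL_iff.1 normA_chk k hk
  simp only [Bool.and_eq_true, Nat.beq_eq, sq_eq, Pat.all_iff] at h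
  rw [← S.f_ci (Pat.okH_of (Pat.mem_gen hk)) h.1.1 (Pat.okH_of hv)]
  exact S.f_mem_pat (h.2 v hv)

theorem A_not_conj_B (g : G) : (S.pat pA).map (MulAut.conj g).toMonoidHom ≠ S.pat pB := by
  intro h
  have h1 : ((g • S.syl : Sylow 2 G) : Subgroup G) ≤ normalizer (S.pat pB : Set G) := by
    intro x hx
    rw [H43.mem_sylow_smul, S.syl_eq] at hx
    have h2 := H43.mem_normalizer_iff_map_conj.1 (S.T_le_normA hx)
    rw [H43.mem_normalizer_iff_map_conj, ← h, H43.map_conj_mul]
    conv_rhs => rw [← h2, H43.map_conj_mul]
    congr 3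
    group
  obtain ⟨n, hn, h3⟩ := H43.sylow_conj_in (g • S.syl) S.syl h1 (S.syl_eq ▸ S.T_le_normB)
  have h4 : n * g ∈ normalizer (S.pat pT : Set G) := by
    rw [mem_normalizer_iff'']
    intro x
    have := h3 x
    rw [H43.mem_sylow_smul, S.syl_eq] at this
    simpa [mul_assoc] using this
  have h5 := H43.mem_normalizer_iff_map_conj.1 (S.T_le_normA (S.normalizer_T h4))
  rw [← H43.map_conj_mul, h, H43.mem_normalizer_iff_map_conj.1 hn] at h5
  have h6 : S.f c13 ∈ S.pat pB := h5 ▸ S.f_mem_pat (by decide +kernel)
  rw [S.f_mem_pat_iff (by decide +kernel)] at h6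
  exact absurd h6 (by decide +kernel)

theorem e64_conj {P : Pat} [P.OK] (h2 : ∀ v, P.mem v = true → mulN v v = cI)
    (hc : ∀ v w, P.mem v = true → P.mem w = true → mulN v w = mulN w v)
    (h64 : Nat.card (S.pat P) = 64) {g : G} (h : ∀ x ∈ S.pat P, g * x * g⁻¹ ∈ S.pat pT) :
    (S.pat P).map (MulAut.conj g).toMonoidHom = S.pat pA ∨
      (S.pat P).map (MulAut.conj g).toMonoidHom = S.pat pB := by
  refine S.e64 ?_ ?_ ?_ (by rw [H43.card_map_conj, h64])
  · rintro _ ⟨x, hx, rfl⟩; exact h x hx
  · rintro _ ⟨_, ⟨v, hv, rfl⟩, rfl⟩
    rw [← map_mul, S.f_sq (Pat.okH_of hv) (h2 v hv), map_one]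
  · rintro _ ⟨_, ⟨v, hv, rfl⟩, rfl⟩ _ ⟨_, ⟨w, hw, rfl⟩, rfl⟩
    rw [← map_mul, ← map_mul, (S.f_comm_iff (Pat.okH_of hv) (Pat.okH_of hw)).2 (hc v w hv hw)]

theorem wcA {g : G} (h : ∀ x ∈ S.pat pA, g * x * g⁻¹ ∈ S.pat pT) :
    g ∈ normalizer (S.pat pA : Set G) :=
  H43.mem_normalizer_iff_map_conj.2 ((S.e64_conj (fun _ => A_sq) (fun _ _ => A_comm) S.card_A
    h).resolve_right (S.A_not_conj_B g))

theorem wcB {g : G} (h : ∀ x ∈ S.pat pB, g * x * g⁻¹ ∈ S.pat pT) :
    g ∈ normalizer (S.pat pB : Set G) := by
  refine H43.mem_normalizer_iff_map_conj.2 ((S.e64_conj (fun _ => B_sq) (fun _ _ => B_comm) S.card_B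
    h).resolve_left fun h1 => S.A_not_conj_B g⁻¹ ?_)
  rw [← h1, H43.map_conj_mul, inv_mul_cancel, H43.map_conj_one]

theorem fuse {X : Subgroup G} (hX : IsPGroup 2 X) {u v g : G} (hu : ∀ x ∈ X, u * x = x * u)
    (hv : ∀ x ∈ X, v * x = x * v) (hg : g * u * g⁻¹ = v) :
    ∃ n : G, n * u * n⁻¹ = v ∧ (S.pat pA ≤ X → n ∈ normalizer (S.pat pA : Set G)) ∧
      (S.pat pB ≤ X → n ∈ normalizer (S.pat pB : Set G)) := by
  obtain ⟨R, hR, -, hXR, -, c, hc, hY⟩ := H43.exists_common_pgroup (H := centralizer {v}) hX
    (fun x hx => H43.mem_centralizer_singleton.2 (hv x hx)) (hX.map (MulAut.conj g).toMonoidHom) (by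
      rintro _ ⟨x, hx, rfl⟩
      rw [H43.mem_centralizer_singleton, ← hg]
      have := congrArg (fun y => g * y * g⁻¹) (hu x hx)
      simpa [mul_assoc] using this)
  obtain ⟨h, hh⟩ := H43.exists_conj_le_sylow S.syl hR
  rw [S.syl_eq] at hh
  have e : ∀ x ∈ X, (h * (c * g)) * x * (h * (c * g))⁻¹ ∈ S.pat pT := fun x hx => by
    have := hh _ (hY _ (H43.conj_mem_map_conj (g := g) hx))
    simpa [mul_assoc] using this
  refine ⟨c * g, ?_, fun hA => ?_, fun hB => ?_⟩
  · have := H43.mem_centralizer_singleton.1 hc
    calc c * g * u * (c * g)⁻¹ = c * (g * u * g⁻¹) * c⁻¹ := by group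
      _ = v := by rw [hg, ← this, mul_inv_cancel_right]
  · exact (Subgroup.mul_mem_cancel_left _ (S.wcA fun x hx => hh x (hXR (hA hx)))).1
      (S.wcA fun x hx => e x (hA hx))
  · exact (Subgroup.mul_mem_cancel_left _ (S.wcB fun x hx => hh x (hXR (hB hx)))).1
      (S.wcB fun x hx => e x (hB hx))

theorem pat_mono {P Q : Pat} [P.OK] [Q.OK] (h : ∀ v, P.mem v = true → Q.mem v = true) :
    S.pat P ≤ S.pat Q := by
  rintro _ ⟨v, hv, rfl⟩
  exact S.f_mem_pat (h v hv)

theorem fuseW {u v : ℕ} (hu : pW.mem u = true) (hv : pW.mem v = true) (h : IsConj (S.f u) (S.f v)) :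
    ∃ n : G, n * S.f u * n⁻¹ = S.f v ∧ n ∈ normalizer (S.pat pA : Set G) ∧
      n ∈ normalizer (S.pat pB : Set G) := by
  obtain ⟨g, hg⟩ := isConj_iff.1 h
  have hc : ∀ w, pW.mem w = true → ∀ x ∈ S.pat pJ, S.f w * x = x * S.f w := by
    rintro w hw _ ⟨j, hj, rfl⟩
    exact ((S.f_comm_iff (Pat.okH_of hj) (Pat.okH_of hw)).2 (J_W_comm hj hw)).symm
  obtain ⟨n, h1, h2, h3⟩ := S.fuse (X := S.pat pJ)
    (S.isPGroup_T.to_le (S.pat_mono fun _ => J_T)) (hc u hu) (hc v hv) hg
  exact ⟨n, h1, h2 (S.pat_mono fun _ => A_J), h3 (S.pat_mono fun _ => B_J)⟩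

theorem fuseA {u v : ℕ} (hu : pA.mem u = true) (hv : pA.mem v = true) (h : IsConj (S.f u) (S.f v)) :
    ∃ n : G, n * S.f u * n⁻¹ = S.f v ∧ n ∈ normalizer (S.pat pA : Set G) := by
  obtain ⟨g, hg⟩ := isConj_iff.1 h
  have hc : ∀ w, pA.mem w = true → ∀ x ∈ S.pat pA, S.f w * x = x * S.f w := by
    rintro w hw _ ⟨j, hj, rfl⟩
    exact (S.f_comm_iff (Pat.okH_of hw) (Pat.okH_of hj)).2 (A_comm hw hj)
  obtain ⟨n, h1, h2, -⟩ := S.fuse (X := S.pat pA)
    (S.isPGroup_T.to_le (S.pat_mono fun _ => A_T)) (hc u hu) (hc v hv) hg
  exact ⟨n, h1, h2 le_rfl⟩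

omit [Finite G] in
theorem conj_cm {g : G} {a b a' b' : ℕ} (ha : okH a = true) (hb : okH b = true) (ha' : okH a' = true)
    (hb' : okH b' = true) (h1 : g * S.f a * g⁻¹ = S.f a') (h2 : g * S.f b * g⁻¹ = S.f b') :
    g * S.f (cm a b) * g⁻¹ = S.f (cm a' b') := by
  rw [cm, cm, S.f_sq' (ok_mul ha hb), S.f_sq' (ok_mul ha' hb'), S.f_mul ha hb, S.f_mul ha' hb',
    ← h1, ← h2]
  group

theorem ok_cm {a b : ℕ} (ha : okH a = true) (hb : okH b = true) : okH (cm a b) = true :=
  ok_sq (ok_mul ha hb)

theorem not_conj_rep {i j : ℕ} (hi : i ≤ 3) (hj : j = 4 ∨ j = 5) :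
    ¬ IsConj (S.f (rep i)) (S.f (rep j)) := by
  intro h
  have h0 : ∀ i ≤ 3, pW.mem (rep i) = true ∧ ∃ a ∈ [c13, c23], ∃ b ∈ [c34, c35],
      pA.mem a = true ∧ pB.mem b = true ∧ rep i = cm a b := by decide +kernel
  obtain ⟨h1, a, -, b, -, ha, hb, hab⟩ := h0 i hi
  have h2 : pW.mem (rep j) = true := by rcases hj with rfl | rfl <;> decide +kernel
  obtain ⟨n, h3, hA, hB⟩ := S.fuseW h1 h2 h
  obtain ⟨a', ha', e1⟩ := H43.conj_mem_of_mem_normalizer hA (S.f_mem_pat ha)
  obtain ⟨b', hb', e2⟩ := H43.conj_mem_of_mem_normalizer hB (S.f_mem_pat hb)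
  rw [hab, S.conj_cm (Pat.okH_of ha) (Pat.okH_of hb) (Pat.okH_of ha') (Pat.okH_of hb') e1.symm
    e2.symm] at h3
  have h4 := S.f_inj (ok_cm (Pat.okH_of ha') (Pat.okH_of hb')) (Pat.okH_of h2) h3
  have h5 := Pat.all_iff.1 (Pat.all_iff.1 rank_chk a' ha') b' hb'
  rw [force_eq, h4] at h5
  rcases hj with rfl | rfl <;> exact absurd h5 (by decide +kernel)

theorem not_conj {u v : ℕ} (hu : pT.mem u = true) (hv : pT.mem v = true) (h1 : cls u ≤ 3)
    (h2 : cls v = 4 ∨ cls v = 5) : ¬ IsConj (S.f u) (S.f v) := fun h =>
  S.not_conj_rep h1 h2 ((S.isConj_rep hu (by omega)).symm.trans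
    (h.trans (S.isConj_rep hv (by omega))))

end Setup

end Cfsg.Agent.H24.He
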