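import Cfsg.Agent.H24.He.Full
import Cfsg.Agent.H24.He.Start
import Cfsg.Agent.H24.He.Cert.HA
import Cfsg.Agent.H24.He.Cert.HB
import Cfsg.Agent.H58.HeP
import Cfsg.Agent.H58.Util4

/-! The centraliser of a 2-central involution of the Held group. -/

set_option autoImplicit false
set_option maxRecDepth 100000
set_option exponentiation.threshold 400000

namespace Cfsg.Agent.H24.He

open Cfsg.Agent.H14 Subgroup H58

section
variable {G : Type*} [Group G] (M : Model G)

/-- the subgroup maps the points of the mask into the mask -/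
def Keep (K : Subgroup G) (R : ℕ) : Prop :=
  ∀ g ∈ K, ∀ j < M.N, R.testBit j = true → R.testBit (M.φ g j) = true

noncomputable def andM (nets : List Net) (Os : List ℕ) (l : List (ℕ × List ℕ × ℕ)) (F : ℕ) : ℕ :=
  List.rec (motive := fun _ => ℕ) F
    (fun e _ ih => Nat.land (appW nets e.2.1 (Os.getD e.2.2 0)) ih) l

noncomputable def stepChk (nets : List Net) (N : ℕ) (Os prev : List ℕ) (l : List (ℕ × List ℕ × ℕ))
    (F q n : ℕ) : Bool :=
  allL l (fun e => anyL prev (Nat.beq e.1) && Nat.beq (appW nets e.2.1 1) (Nat.pow 2 e.1)) &&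
    Nat.blt q N && force (andM nets Os l F) fun R => He.tb R q && Nat.beq (cntErr 12 n R) 0

theorem ub_step [Finite G] {Os : List ℕ}
    (hO : ∀ O ∈ Os, ∀ g ∈ M.St 0, ∀ j, O.testBit (M.φ g j) = O.testBit j) {C : Subgroup G} {F : ℕ}
    (hF : Keep M C F) {prev : List ℕ} (l : List (ℕ × List ℕ × ℕ)) {q n : ℕ}
    (h : stepChk M.nets M.N Os prev l F q n = true) :
    Nat.card (M.fixK C prev) ≤ n * Nat.card (M.fixK C (q :: prev)) := by
  simp only [stepChk, Bool.and_eq_true, allL_iff, anyL_iff, Nat.beq_eq, Nat.blt_eq, force_eq,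
    He.tb_eq, exists_eq_right'] at h
  obtain ⟨⟨h1, h2⟩, h3, h4⟩ := h
  have key : ∀ l : List (ℕ × List ℕ × ℕ), (∀ e ∈ l, e.1 ∈ prev ∧ appW M.nets e.2.1 1 = 2 ^ e.1) →
      Keep M (M.fixK C prev) (andM M.nets Os l F) := by
    intro l
    induction l with
    | nil => exact fun _ g hg => hF g (M.mem_fixK.1 hg).1
    | cons e l ih =>
      intro hl g hg j hj
      have e1 : andM M.nets Os (e :: l) F =
        appW M.nets e.2.1 (Os.getD e.2.2 0) &&& andM M.nets Os l F := rfl
      obtain ⟨a1, a2⟩ := hl e List.mem_cons_self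
      have a3 := M.apply_wv' (q := 0) a2
      have a4 : M.φ g e.1 = e.1 := (M.mem_fixK.1 hg).2 _ a1
      have a5 : wv M.el e.2.1 * g * (wv M.el e.2.1)⁻¹ ∈ M.St 0 := by
        rw [M.mem_St, map_mul, map_mul, map_inv, Equiv.Perm.mul_apply, Equiv.Perm.mul_apply]
        conv_lhs => rw [← a3, pinv_self, a4, a3]
      rw [e1, Nat.testBit_and, Nat.testBit_and, Bool.and_eq_true, Bool.and_eq_true,
        testBit_appW M.hN, testBit_appW M.hN, ← M.φ_wv]
      refine fun hh => ⟨?_, ih (fun e he => hl e (List.mem_cons_of_mem _ he)) g hg j hj hh.2⟩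
      rcases Nat.lt_or_ge e.2.2 Os.length with b | b
      · rw [List.getD_eq_getElem _ _ b] at hh ⊢
        rw [← hh.1, ← hO _ (List.getElem_mem b) _ a5 (M.φ (wv M.el e.2.1) j), map_mul, map_mul,
          map_inv, Equiv.Perm.mul_apply, Equiv.Perm.mul_apply, pinv_self]
      · rw [List.getD_eq_default _ _ b] at hh
        simp at hh
  have h5 : (M.orb (M.fixK C prev) q).ncard ≤ n := by
    rw [← ncard_of_cntErr h4]
    refine Set.ncard_le_ncard ?_ (bits_finite _)
    rintro _ ⟨g, hg, rfl⟩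
    exact key l h1 g hg q h2 h3
  rw [← M.relIndex_St] at h5
  have h6 := ((M.St q).subgroupOf (M.fixK C prev)).index_mul_card
  have h7 : Nat.card ((M.St q).subgroupOf (M.fixK C prev)) = Nat.card (M.fixK C (q :: prev)) := by
    rw [← inf_subgroupOf_left]
    exact Nat.card_congr (subgroupOfEquivOfLe inf_le_left).toEquiv
  rw [← h6, h7]
  exact Nat.mul_le_mul_right _ h5

end

def Fm : ℕ := 0x600000000000000000000000000000000000000000000000000000000c2000000000000000000000000000000000000000000000000c003000000000000000000000000000000000000000000000000000000000000000c0200000000000000000000000000000000000000001801c0000000000000000000000000000000000000000000000000000000000000000000000003280280000000000000000000000000000000000200000118180000000000000000000000000810020000618000000000000000000000000818007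
def orbM : List ℕ := [0, 0x3f26811e7ebfff2bfef7daf9b1fe3eff1dfe1f7f399b7ebfffff1eacffbffff3b9fffff3ffbff6dfaa80ff7f3ec1ffdffdffbf79ffc4fa4fa7f0daaf0bfd7e3f0f2fb1a46797fffffffffd9feb77ffcffd9ff753afc8bff87e1bf3f47fdffe6e03fff87fc17ff77cfb3e3400bc1f0bcb8b950fbbbfbe2faffe3d8f6f7ffd2deff7fffffffcf57a28efdcbff99df24a9ebf38bfe387f7dc9ffff1f17fd3c5e1b3619e068e7112075ffa2f3fb937fffdffffffd0880fc8fe3be0a2ba2fd63fe047fd17e979b2e0fc06f500cbf17da7fffffc40383af9078cbf23f8c6dee3fd07f81c5d7c8befe0245bc2d5e2550ffffd979c1d9bc30f323d3e08f0107ec8fff81781e,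
  0x4444814000000153004000000000000000400020404000004000000000000080003a05b058002550f40281c010d04e08000000000000020010800000000008ac502000000124000b802001800000038000000883040000d743e0e434046800444041d05001c230808002000000000000030a059600200000000db56140c0000068002360000e00002c00064c980030118ae5c0a005d0c046c000000000002e77e03000001f5d45c021c01fb802e01602411e022802b6340e8258000003bfc60006f87340dc0738001c028003e3a28374101fd1843d2a1daaf00002680000643cf0cc0281f70fef80300007e87e0,
  0xd97ee1814000d4010820064001c100e201e000822000000000e0000000000c4600000000000900100000808000002002004000000100000000000000000000e0000000000000000000006004080030006000000000000000c00c0000000000000004000000000000000220000010000000000000000000000040000000000000000000000080411003400002000000000000001008000000000000000018000001880004000000000000000000000000000100100700000000000000000000000000040c0001500040000000000000000001c00000000000000121000058040000000000000a00000000000000000063e200000001c0400000000107000000000,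
  0x5000e000000000000800000000000000000000000000000000c00000000053f0000013e00000000000600000000000f0000000000000000005398680000000000000000000002000000001740078000000000000011fc0000003e80000000c1c908000000007002f00000000000000000100000d210080000000000000000000006600000000007401c0000000000000e80003a00000660416000083800000000000800020000000000000001c4000000100800000000080080000100810809000000000000000000050000000000000000000020000000000000000020000000000000000000000000000000000000000000000000000]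

instance finHe : Finite Spor.He := HeP.finite

/-- the centraliser of the fifth generator -/
abbrev Ce : Subgroup Spor.He := centralizer {HeP.el 5}

theorem keepO : ∀ O ∈ orbM, ∀ g ∈ HeP.M.St 0, ∀ j, O.testBit (HeP.M.φ g j) = O.testBit j := by
  have h : allL orbM (fun O => Nat.beq (keepErr HeM.nets [[1], [3], [4], [5], [6], [1, 2, 1, 2],
    [2, 3, 4, 5, 2, 3, 4, 5, 2, 3, 4, 5, 2, 3, 4, 5, 2, 3, 4, 5, 2, 3, 4, 5, 2, 3, 4, 5]] O) 0) = true := by
    decide +kernel
  intro O hO g hg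
  rw [← HeP.index_H.2] at hg
  exact HeP.M.keep_clW (Nat.beq_eq.to_iff.1 (allL_iff.1 h O hO)) g hg

noncomputable def dfM (t : ℕ) : ℕ :=
  force (pat 2058 12 t) fun v => Nat.xor (appW HeM.nets [5] v) v

noncomputable def orM (n : ℕ) : ℕ := Nat.rec Fm (fun t ih => Nat.lor (dfM t) ih) n

theorem fix_chk : (allN 12 (fun t => Nat.beq (Nat.land (dfM t) Fm) 0) &&
    Nat.beq (orM 12) (Nat.pred (Nat.pow 2 2058))) = true := by decide +kernel

theorem testBit_dfM {t j : ℕ} (ht : t < 12) (hj : j < 2058) :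
    (dfM t).testBit j = ((HeP.M.φ (HeP.el 5) j).testBit t ^^ j.testBit t) := by
  have e : wv HeP.M.el [5] = HeP.el 5 := by simp [wv]; rfl
  have h1 : HeP.M.φ (HeP.el 5) j < 2058 := perm_lt (HeP.M.φ_fix HeP.hgen _) hj
  have h2 := testBit_appW HeP.M.hN [5] (pat 2058 12 t) j
  rw [← HeP.M.φ_wv, e] at h2
  rw [dfM, force_eq]
  change (appW HeP.M.nets [5] (pat 2058 12 t) ^^^ pat 2058 12 t).testBit j = _
  rw [Nat.testBit_xor, h2, testBit_pat ht (by decide), testBit_pat ht (by decide)]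
  simp [h1, hj]

theorem fix_iff {j : ℕ} (hj : j < 2058) : Fm.testBit j = true ↔ HeP.M.φ (HeP.el 5) j = j := by
  have h := fix_chk
  simp only [Bool.and_eq_true, allN_iff, Nat.beq_eq] at h
  constructor
  · intro h1
    have h2 : HeP.M.φ (HeP.el 5) j < 2058 := perm_lt (HeP.M.φ_fix HeP.hgen _) hj
    refine Nat.eq_of_testBit_eq fun t => ?_
    rcases Nat.lt_or_ge t 12 with ht | ht
    · have h3 := congrArg (fun x => Nat.testBit x j) (show dfM t &&& Fm = 0 from h.1 t ht)
      simp only [Nat.testBit_and, h1, testBit_dfM ht hj] at h3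
      simpa using h3
    · have : 2 ^ 12 ≤ 2 ^ t := Nat.pow_le_pow_right (by decide) ht
      rw [Nat.testBit_lt_two_pow (by omega), Nat.testBit_lt_two_pow (by omega)]
  · intro h1
    have key : ∀ n ≤ 12, (orM n).testBit j = Fm.testBit j := by
      intro n hn
      induction n with
      | zero => rfl
      | succ n ih =>
        have : orM (n + 1) = dfM n ||| orM n := rfl
        rw [this, Nat.testBit_or, ih (by omega), testBit_dfM (by omega) hj, h1]
        simp
    rw [← key 12 le_rfl, h.2]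
    change (2 ^ 2058 - 1).testBit j = true
    rw [Nat.testBit_two_pow_sub_one, decide_eq_true hj]

theorem keepF : Keep HeP.M Ce Fm ∧ Keep HeP.M Ce (Nat.xor (Nat.pred (Nat.pow 2 2058)) Fm) := by
  have key : ∀ g ∈ Ce, ∀ j < 2058, HeP.M.φ g j < 2058 ∧ Fm.testBit (HeP.M.φ g j) = Fm.testBit j := by
    intro g hg j hj
    have h1 : HeP.M.φ g j < 2058 := perm_lt (HeP.M.φ_fix HeP.hgen g) hj
    refine ⟨h1, ?_⟩
    rw [Bool.eq_iff_iff, fix_iff h1, fix_iff hj, ← Equiv.Perm.mul_apply, ← map_mul,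
      ← mem_centralizer_singleton_iff.1 hg, map_mul, Equiv.Perm.mul_apply]
    exact (HeP.M.φ g).injective.eq_iff
  refine ⟨fun g hg j hj h => by rwa [(key g hg j hj).2], fun g hg j hj => ?_⟩
  have e : Nat.xor (Nat.pred (Nat.pow 2 2058)) Fm = (2 ^ 2058 - 1) ^^^ Fm := rfl
  have hj' : j < 2058 := hj
  rw [e, Nat.testBit_xor, Nat.testBit_xor, Nat.testBit_two_pow_sub_one, Nat.testBit_two_pow_sub_one,
    (key g hg j hj).2, decide_eq_true (key g hg j hj).1, decide_eq_true hj']
  exact id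

theorem ub0 : Nat.card (HeP.M.fixK Ce []) ≤ 42 * Nat.card (HeP.M.fixK Ce [0]) :=
  ub_step HeP.M keepO keepF.1 [] (by decide +kernel)

theorem ub1 : Nat.card (HeP.M.fixK Ce [0]) ≤ 16 * Nat.card (HeP.M.fixK Ce [1, 0]) :=
  ub_step HeP.M keepO keepF.1 [(0, [], 1)] (by decide +kernel)

theorem ub2 : Nat.card (HeP.M.fixK Ce [1, 0]) ≤ 4 * Nat.card (HeP.M.fixK Ce [792, 1, 0]) :=
  ub_step HeP.M keepO keepF.2 [(0, [], 3), (1, [2], 3)] (by decide +kernel)

theorem ub3 : Nat.card (HeP.M.fixK Ce [792, 1, 0]) ≤ 4 * Nat.card (HeP.M.fixK Ce [1775, 792, 1, 0]) :=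
  ub_step HeP.M keepO keepF.2 [(0, [], 4), (1, [2], 4), (792, [2, 7, 4, 5, 6, 4, 3, 4, 7], 3)] (by decide +kernel)

theorem ub4 : Nat.card (HeP.M.fixK Ce [1775, 792, 1, 0]) ≤ 2 * Nat.card (HeP.M.fixK Ce [775, 1775, 792, 1, 0]) :=
  ub_step HeP.M keepO keepF.1 [(0, [], 2), (1, [2], 4), (792, [2, 7, 4, 5, 6, 4, 3, 4, 7], 1), (1775, [7, 4, 3, 2, 4, 7, 6, 4, 3, 4], 1)] (by decide +kernel)

theorem ub5 : Nat.card (HeP.M.fixK Ce [775, 1775, 792, 1, 0]) ≤ 1 * Nat.card (HeP.M.fixK Ce [531, 775, 1775, 792, 1, 0]) :=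
  ub_step HeP.M keepO keepF.2 [(0, [], 2), (1, [2], 2), (792, [2, 7, 4, 5, 6, 4, 3, 4, 7], 4), (1775, [7, 4, 3, 2, 4, 7, 6, 4, 3, 4], 3), (775, [7, 4, 3, 4, 3, 5, 4], 3)] (by decide +kernel)

theorem ub6 : Nat.card (HeP.M.fixK Ce [531, 775, 1775, 792, 1, 0]) ≤ 1 * Nat.card (HeP.M.fixK Ce [167, 531, 775, 1775, 792, 1, 0]) :=
  ub_step HeP.M keepO keepF.1 [(0, [], 1), (1, [2], 2), (792, [2, 7, 4, 5, 6, 4, 3, 4, 7], 4), (1775, [7, 4, 3, 2, 4, 7, 6, 4, 3, 4], 1), (775, [7, 4, 3, 4, 3, 5, 4], 3), (531, [2, 3, 4, 3, 2, 4, 6, 4, 3, 4, 3, 4, 7], 2)] (by decide +kernel)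

theorem ub7 : Nat.card (HeP.M.fixK Ce [167, 531, 775, 1775, 792, 1, 0]) ≤ 1 * Nat.card (HeP.M.fixK Ce [134, 167, 531, 775, 1775, 792, 1, 0]) :=
  ub_step HeP.M keepO keepF.2 [(0, [], 1), (1, [2], 2), (792, [2, 7, 4, 5, 6, 4, 3, 4, 7], 1), (1775, [7, 4, 3, 2, 4, 7, 6, 4, 3, 4], 3), (775, [7, 4, 3, 4, 3, 5, 4], 1), (531, [2, 3, 4, 3, 2, 4, 6, 4, 3, 4, 3, 4, 7], 1), (167, [2, 7, 4, 5, 6, 4], 4)] (by decide +kernel)

theorem ub8 : Nat.card (HeP.M.fixK Ce [134, 167, 531, 775, 1775, 792, 1, 0]) ≤ 1 * Nat.card (HeP.M.fixK Ce [26, 134, 167, 531, 775, 1775, 792, 1, 0]) :=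
  ub_step HeP.M keepO keepF.2 [(0, [], 1), (1, [2], 1), (792, [2, 7, 4, 5, 6, 4, 3, 4, 7], 1), (1775, [7, 4, 3, 2, 4, 7, 6, 4, 3, 4], 1), (775, [7, 4, 3, 4, 3, 5, 4], 1), (531, [2, 3, 4, 3, 2, 4, 6, 4, 3, 4, 3, 4, 7], 4), (167, [2, 7, 4, 5, 6, 4], 4), (134, [2, 3, 4, 5, 6, 4, 3, 4], 2)] (by decide +kernel)

theorem ub9 : Nat.card (HeP.M.fixK Ce [26, 134, 167, 531, 775, 1775, 792, 1, 0]) ≤ 1 * Nat.card (HeP.M.fixK Ce [7, 26, 134, 167, 531, 775, 1775, 792, 1, 0]) :=
  ub_step HeP.M keepO keepF.2 [(0, [], 2), (1, [2], 1), (792, [2, 7, 4, 5, 6, 4, 3, 4, 7], 2), (1775, [7, 4, 3, 2, 4, 7, 6, 4, 3, 4], 1), (775, [7, 4, 3, 4, 3, 5, 4], 1), (531, [2, 3, 4, 3, 2, 4, 6, 4, 3, 4, 3, 4, 7], 3), (167, [2, 7, 4, 5, 6, 4], 1), (134, [2, 3, 4, 5, 6, 4, 3, 4], 4)] (by decide +kernel)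

theorem base_triv : HeP.M.fixK ⊤ [7, 26, 1, 0] = ⊥ := by
  have h : 2058 * (1360 * (360 * (4 * Nat.card ((HeP.M.fixK ⊤ [7, 26, 1, 0]).map HeP.M.φ)))) ≤
      Nat.card ((HeP.M.fixK ⊤ []).map HeP.M.φ) :=
    HeP.M.lev_step (fun _ _ => trivial) HeP.lf0 HeP.lo0
      (HeP.M.lev_step (fun _ _ => trivial) HeP.lf1 HeP.lo1
      (HeP.M.lev_step (fun _ _ => trivial) HeP.lf2 HeP.lo2
      (HeP.M.lev_step (fun _ _ => trivial) HeP.lf3 HeP.lo3 le_rfl)))
  rw [card_map_of_injective HeP.inj, card_map_of_injective HeP.inj] at h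
  have h2 : Nat.card (HeP.M.fixK ⊤ []) = 4030387200 := by
    change Nat.card (⊤ : Subgroup Spor.He) = _
    rw [card_top, HeP.card_eq]
  rw [h2] at h
  exact card_le_one_iff_eq_bot _ |>.1 (by omega)

theorem card_Ce : Nat.card Ce ≤ 21504 := by
  have h : Nat.card (HeP.M.fixK Ce [7, 26, 134, 167, 531, 775, 1775, 792, 1, 0]) ≤ 1 := by
    rw [card_le_one_iff_eq_bot, eq_bot_iff, ← base_triv]
    intro g hg
    rw [HeP.M.mem_fixK] at hg ⊢
    exact ⟨trivial, fun q hq => hg.2 q (by revert q; decide)⟩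
  have h0 : Nat.card Ce = Nat.card (HeP.M.fixK Ce []) := rfl
  have := ub0; have := ub1; have := ub2; have := ub3; have := ub4; have := ub5; have := ub6
  have := ub7; have := ub8; have := ub9
  omega

end Cfsg.Agent.H24.He
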