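import Cfsg.Agent.H24.He.Mat

/-! The centraliser of a transvection in `SL(5,2)` by codes. -/

set_option autoImplicit false
set_option maxRecDepth 100000

namespace Cfsg.Agent.H24.He

open Cfsg.Agent.H14

/-- the code of the transvection `1 + E₀₄` -/
def cz : ℕ := 17043537

def bld (r0 r1 r2 r3 : ℕ) : ℕ :=
  Nat.add (Nat.add (Nat.add (Nat.add 16777217 (Nat.mul 2 r0)) (Nat.mul 64 r1)) (Nat.mul 2048 r2))
    (Nat.mul 65536 r3)

/-- bit test by primitive operations -/
def tb (n k : ℕ) : Bool := Nat.beq (Nat.land (Nat.shiftRight n k) 1) 1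

theorem tb_eq (n k : ℕ) : tb n k = n.testBit k := by
  have : tb n k = Nat.beq ((n >>> k) &&& 1) 1 := rfl
  rw [this, Nat.and_one_is_mod, Nat.testBit_eq_decide_div_mod_eq, Nat.shiftRight_eq_div_pow]
  rcases Nat.mod_two_eq_zero_or_one (n / 2 ^ k) with h | h <;> rw [h] <;> rfl

def mid (n : ℕ) : ℕ := Nat.add (Nat.add (Nat.mod (Nat.div n 64) 8)
  (Nat.mul 8 (Nat.mod (Nat.div n 2048) 8))) (Nat.mul 64 (Nat.mod (Nat.div n 65536) 8))

theorem mid_eq (n : ℕ) : mid n = n / 64 % 8 + 8 * (n / 2048 % 8) + 64 * (n / 65536 % 8) := rfl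

def det3 (n : ℕ) : Bool := tb 0x3c5a66665a3c003c0096aa96aa3c005a9600cc965acc0066aacc0066aacc006696966600f0f0005aaa5aaaf000f0003c3cccccf0f000000000000000000000 (mid n)

theorem det_tab : ∀ a < 8, ∀ b < 8, ∀ c < 8, tb 0x3c5a66665a3c003c0096aa96aa3c005a9600cc965acc0066aacc0066aacc006696966600f0f0005aaa5aaaf000f0003c3cccccf0f000000000000000000000 (a + 8 * b + 64 * c) =
    xor (xor (a.testBit 0 && xor (b.testBit 1 && c.testBit 2) (b.testBit 2 && c.testBit 1))
    (a.testBit 1 && xor (b.testBit 0 && c.testBit 2) (b.testBit 2 && c.testBit 0)))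
    (a.testBit 2 && xor (b.testBit 0 && c.testBit 1) (b.testBit 1 && c.testBit 0)) := by
  decide +kernel

theorem det3_eq (n : ℕ) : det3 n =
    xor (xor (n.testBit 6 && xor (n.testBit 12 && n.testBit 18) (n.testBit 13 && n.testBit 17))
    (n.testBit 7 && xor (n.testBit 11 && n.testBit 18) (n.testBit 13 && n.testBit 16)))
    (n.testBit 8 && xor (n.testBit 11 && n.testBit 17) (n.testBit 12 && n.testBit 16)) := by
  have h := det_tab (n / 2 ^ 6 % 2 ^ 3) (Nat.mod_lt _ (by norm_num)) (n / 2 ^ 11 % 2 ^ 3)
    (Nat.mod_lt _ (by norm_num)) (n / 2 ^ 16 % 2 ^ 3) (Nat.mod_lt _ (by norm_num))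
  simp only [Nat.testBit_mod_two_pow, Nat.testBit_div_two_pow] at h
  exact h

/-- codes of the elements of the centraliser -/
def okH (n : ℕ) : Bool :=
  Nat.beq n (bld (Nat.mod (Nat.div n 2) 16) (Nat.mod (Nat.div n 64) 16) (Nat.mod (Nat.div n 2048) 16)
    (Nat.mod (Nat.div n 65536) 16)) && det3 n

theorem okH_iff {n : ℕ} : okH n = true ↔
    n = bld (n / 2 % 16) (n / 64 % 16) (n / 2048 % 16) (n / 65536 % 16) ∧ det3 n = true := by
  rw [okH, Bool.and_eq_true, Nat.beq_eq]; rfl

theorem bld_eq (r0 r1 r2 r3 : ℕ) :
    bld r0 r1 r2 r3 = 16777217 + 2 * r0 + 64 * r1 + 2048 * r2 + 65536 * r3 := rfl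

noncomputable def allH (p : ℕ → Bool) : Bool :=
  allN 16 fun r1 => allN 16 fun r2 => allN 16 fun r3 => bimp (det3 (bld 0 r1 r2 r3))
    (allN 16 fun r0 => force (bld r0 r1 r2 r3) p)

theorem allH_spec {p : ℕ → Bool} (h : allH p = true) {n : ℕ} (hn : okH n = true) : p n = true := by
  obtain ⟨h1, h2⟩ := okH_iff.1 hn
  simp only [allH, allN_iff, bimp_iff, force_eq] at h
  have l0 : n / 2 % 16 < 16 := Nat.mod_lt _ (by norm_num)
  have l1 : n / 64 % 16 < 16 := Nat.mod_lt _ (by norm_num)
  have l2 : n / 2048 % 16 < 16 := Nat.mod_lt _ (by norm_num)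
  have l3 : n / 65536 % 16 < 16 := Nat.mod_lt _ (by norm_num)
  rw [h1]
  refine h _ l1 _ l2 _ l3 ?_ _ l0
  have : mid (bld 0 (n / 64 % 16) (n / 2048 % 16) (n / 65536 % 16)) = mid n := by
    rw [mid_eq, mid_eq, bld_eq]; omega
  rw [det3, this]; exact h2

def invTab : ℕ := 0x20e5303011981829cc0c0c260400000000000000000041cc5040000010130c18298e0800000206608200000000000040865060451820000000000004082706047082000000000000418e5060c538200000000000041823060c308200000000000040c45040000010111c182886080000020e20820000000000000000002065103013881828c40c1c22040000000000000000000000000000000000000000000000000000000000000000000000000020e3303012981819cc0c14260400000000000000000000000000000000000000000000000000000000000000838ca080000000000010128c100000041427060670820000008118a080000020461820000008118e08000002046082000000819ca080000000000010129c100000041423060e30820000008308a080000020c238200000083086080000020c20820000000000000000002067103012881838c40c1422040000000000000000000000000000000000000000000000000000000000000000000041cc3040000010131418198e080000020a608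2000000839460800000000000101194100000040c27060a7082000000000000000000000000000000000000000000000000000000008114c0c086604000000000000811cc0c0826040000000000008194e0800000000000101394100000041c23060a308200000000000040c470400000101114183886080000020a2082000000831440c18e204000000000000830c40c18220400000000000000000000000000000000000000000000000000000000000000000000410a306083282000000000000410270608708200000082186080000020862820000008218e08000002086082000000820cc0c10a604000000000000821cc0c10260400000000000000000000000000000000000000000000000000000000000000000000410a70608728200000000000041023060830820000008208e080000020822820000008208608000002082082000000821c40c10a204000000000000820c40c10220400000000000000000000000000000000000000000000000000000000000000000000418e3060c338200000000000041825060c5082000000829c6080000000000010119c100000040c25060e5082000000828ce080000000000010138c100000041c250606508200000000000040867060471820000000000004082506045082000000000000000000000000000000000000000000000000000000008288c0c0c46060e230301118100000000000000000000000008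29840c1cc20606610301308100000000000000000000000000000000000000000000000000000000000000000000000000000000041483040000010121c18190a080000020e408200000083106080000020c43820000008310a080000020c408200000000000041487040000010120c18390a080000020640820000008110e080000020441820000008110a080000020440820000008190c0c1486060e4303012181000000000000000000000000000000000000000000000000000000000000000000000000000839040c14820606410301208100000000000000000000000000000000000000000000000000000000000000000000000000000000000000020a3203013901819480c1c240400000000000000000000000020a7203011901839480c0c2404000000000000830c80c18e404000000000000831480c182404000000000000811c80c086404000000000000811480c082404000000000000819880c1cc4060a62030131010000000000000000000000000838880c0c44060a2203011101000000000000000000000000000000000000000000000000000000000000000000000000000000000000000000000000000000000000000000000000000000000000000000000000000000000000000000000000000000000000000000000000000000000000000000000000000000000000000000000000000000000000000000000000000000000000000000000000000000000000000000000000000000000000000000000000000000000000000000000000000000000000000000000000000000000000000000000000000000000000000000000000000000000000000000000000000000000000000000000000000000000000000000000000000000000000000000000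

def invL (n : ℕ) : ℕ :=
  Nat.land (Nat.shiftRight invTab (Nat.mul 25 (mid n))) 33554431

/-- the code of the inverse -/
noncomputable def invN (n : ℕ) : ℕ :=
  force (invL n) fun l => force (mulN l n) fun q => mulN q (mulN q (mulN q l))

theorem inv_chk : allH (fun n => force (invN n) fun m => Nat.beq (mulN m n) cI && okH m &&
    Nat.beq (mulN n cz) (mulN cz n)) = true := by decide +kernel

theorem ok_lt {n : ℕ} (hn : okH n = true) : n < 2 ^ 25 := by
  have h1 := (okH_iff.1 hn).1
  rw [bld_eq] at h1
  omega

theorem inv_mul_ok {n : ℕ} (hn : okH n = true) : mulN (invN n) n = cI := by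
  have := allH_spec inv_chk hn
  simp only [force_eq, Bool.and_eq_true, Nat.beq_eq] at this
  exact this.1.1

theorem ok_inv {n : ℕ} (hn : okH n = true) : okH (invN n) = true := by
  have := allH_spec inv_chk hn
  simp only [force_eq, Bool.and_eq_true, Nat.beq_eq] at this
  exact this.1.2

theorem ok_comm {n : ℕ} (hn : okH n = true) : mulN n cz = mulN cz n := by
  have := allH_spec inv_chk hn
  simp only [force_eq, Bool.and_eq_true, Nat.beq_eq] at this
  exact this.2

theorem ok_det {n : ℕ} (hn : okH n = true) : (mat n).det = 1 := det_eq_one_of_mul (inv_mul_ok hn)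

theorem det_shape (A : M5) (h10 : A 1 0 = 0) (h20 : A 2 0 = 0) (h30 : A 3 0 = 0) (h40 : A 4 0 = 0)
    (h41 : A 4 1 = 0) (h42 : A 4 2 = 0) (h43 : A 4 3 = 0) :
    A.det = A 0 0 * A 4 4 * (A 1 1 * (A 2 2 * A 3 3 + A 2 3 * A 3 2) +
      A 1 2 * (A 2 1 * A 3 3 + A 2 3 * A 3 1) + A 1 3 * (A 2 1 * A 3 2 + A 2 2 * A 3 1)) := by
  have e : A = !![A 0 0, A 0 1, A 0 2, A 0 3, A 0 4; 0, A 1 1, A 1 2, A 1 3, A 1 4;
      0, A 2 1, A 2 2, A 2 3, A 2 4; 0, A 3 1, A 3 2, A 3 3, A 3 4; 0, 0, 0, 0, A 4 4] := by
    ext i j
    fin_cases i <;> fin_cases j <;> simp [h10, h20, h30, h40, h41, h42, h43]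
  generalize A 0 0 = a00, A 0 1 = a01, A 0 2 = a02, A 0 3 = a03, A 0 4 = a04, A 1 1 = a11,
    A 1 2 = a12, A 1 3 = a13, A 1 4 = a14, A 2 1 = a21, A 2 2 = a22, A 2 3 = a23, A 2 4 = a24,
    A 3 1 = a31, A 3 2 = a32, A 3 3 = a33, A 3 4 = a34, A 4 4 = a44 at e ⊢
  subst e
  simp [Matrix.det_succ_column_zero, Fin.sum_univ_succ, Fin.succAbove, Matrix.submatrix]
  ring

theorem bit_eq_zero {n k : ℕ} : bit n k = 0 ↔ n.testBit k = false := by
  simp only [bit]; cases n.testBit k <;> decide

theorem bit_eq_one {n k : ℕ} : bit n k = 1 ↔ n.testBit k = true := by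
  simp only [bit]; cases n.testBit k <;> decide

theorem mat_cz : mat cz = 1 + Matrix.single 0 4 1 := by decide

theorem ok_of {n : ℕ} (h1 : n < 2 ^ 25) (h2 : (mat n).det = 1) (h3 : mat n * mat cz = mat cz * mat n) :
    okH n = true := by
  rw [mat_cz, Matrix.mul_add, Matrix.add_mul, Matrix.mul_one, Matrix.one_mul, add_right_inj] at h3
  have e : ∀ i j, (mat n * Matrix.single 0 4 1 : M5) i j = (Matrix.single 0 4 1 * mat n : M5) i j :=
    fun i j => by rw [h3]
  have h10 : mat n 1 0 = 0 := by simpa [Matrix.mul_apply, Matrix.single, Fin.sum_univ_five] using e 1 4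
  have h20 : mat n 2 0 = 0 := by simpa [Matrix.mul_apply, Matrix.single, Fin.sum_univ_five] using e 2 4
  have h30 : mat n 3 0 = 0 := by simpa [Matrix.mul_apply, Matrix.single, Fin.sum_univ_five] using e 3 4
  have h40 : mat n 4 0 = 0 := by simpa [Matrix.mul_apply, Matrix.single, Fin.sum_univ_five] using e 4 4
  have h41 : mat n 4 1 = 0 := by
    simpa [Matrix.mul_apply, Matrix.single, Fin.sum_univ_five] using (e 0 1).symm
  have h42 : mat n 4 2 = 0 := by
    simpa [Matrix.mul_apply, Matrix.single, Fin.sum_univ_five] using (e 0 2).symm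
  have h43 : mat n 4 3 = 0 := by
    simpa [Matrix.mul_apply, Matrix.single, Fin.sum_univ_five] using (e 0 3).symm
  rw [det_shape _ h10 h20 h30 h40 h41 h42 h43] at h2
  have h4 : ∀ a b c : ZMod 2, a * b * c = 1 → a = 1 ∧ b = 1 ∧ c = 1 := by decide
  obtain ⟨h00, h44, hd⟩ := h4 _ _ _ h2
  have hd' : det3 n = true := by
    simp only [mat, Matrix.of_apply, bit] at hd
    rw [det3_eq]
    revert hd
    change (if n.testBit 6 then (1 : ZMod 2) else 0) * ((if n.testBit 12 then 1 else 0) *
      (if n.testBit 18 then 1 else 0) + (if n.testBit 13 then 1 else 0) * (if n.testBit 17 then 1 else 0)) +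
      (if n.testBit 7 then 1 else 0) * ((if n.testBit 11 then 1 else 0) *
      (if n.testBit 18 then 1 else 0) + (if n.testBit 13 then 1 else 0) * (if n.testBit 16 then 1 else 0)) +
      (if n.testBit 8 then 1 else 0) * ((if n.testBit 11 then 1 else 0) *
      (if n.testBit 17 then 1 else 0) + (if n.testBit 12 then 1 else 0) * (if n.testBit 16 then 1 else 0))
        = 1 → _
    generalize n.testBit 6 = b6, n.testBit 7 = b7, n.testBit 8 = b8, n.testBit 11 = b11,
      n.testBit 12 = b12, n.testBit 13 = b13, n.testBit 16 = b16, n.testBit 17 = b17,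
      n.testBit 18 = b18
    revert b6 b7 b8 b11 b12 b13 b16 b17 b18
    decide +kernel
  have t10 : n.testBit 5 = false := bit_eq_zero.1 h10
  have t20 : n.testBit 10 = false := bit_eq_zero.1 h20
  have t30 : n.testBit 15 = false := bit_eq_zero.1 h30
  have t40 : n.testBit 20 = false := bit_eq_zero.1 h40
  have t41 : n.testBit 21 = false := bit_eq_zero.1 h41
  have t42 : n.testBit 22 = false := bit_eq_zero.1 h42
  have t43 : n.testBit 23 = false := bit_eq_zero.1 h43
  have t00 : n.testBit 0 = true := bit_eq_one.1 h00
  have t44 : n.testBit 24 = true := bit_eq_one.1 h44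
  simp only [Nat.testBit_eq_decide_div_mod_eq, decide_eq_false_iff_not, decide_eq_true_eq]
    at t10 t20 t30 t40 t41 t42 t43 t00 t44
  refine okH_iff.2 ⟨?_, hd'⟩
  rw [bld_eq]
  omega

theorem ok_mat_comm {n : ℕ} (hn : okH n = true) : mat n * mat cz = mat cz * mat n := by
  rw [← mat_mulN, ← mat_mulN, ok_comm hn]

theorem ok_mul {a b : ℕ} (ha : okH a = true) (hb : okH b = true) : okH (mulN a b) = true :=
  ok_of (mulN_lt _ _) (det_mulN (ok_det ha) (ok_det hb)) (by
    rw [mat_mulN, Matrix.mul_assoc, ok_mat_comm hb, ← Matrix.mul_assoc, ok_mat_comm ha,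
      Matrix.mul_assoc])

theorem ok_cI : okH cI = true := by decide +kernel
theorem ok_cz : okH cz = true := by decide +kernel

theorem mulN_assoc (a b c : ℕ) : mulN (mulN a b) c = mulN a (mulN b c) :=
  mat_inj (mulN_lt _ _) (mulN_lt _ _) (by simp only [mat_mulN, Matrix.mul_assoc])

theorem cI_mulN {a : ℕ} (ha : a < 2 ^ 25) : mulN cI a = a :=
  mat_inj (mulN_lt _ _) ha (by rw [mat_mulN, mat_cI, Matrix.one_mul])

theorem mulN_cI {a : ℕ} (ha : a < 2 ^ 25) : mulN a cI = a :=
  mat_inj (mulN_lt _ _) ha (by rw [mat_mulN, mat_cI, Matrix.mul_one])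

/-- the centraliser of the transvection -/
abbrev Hm : Subgroup SL5 := Subgroup.centralizer {sl cz}

theorem sl_mem {n : ℕ} (hn : okH n = true) : sl n ∈ Hm := by
  rw [Subgroup.mem_centralizer_singleton_iff, ← sl_mulN (ok_det hn) (ok_det ok_cz),
    ← sl_mulN (ok_det ok_cz) (ok_det hn), ok_comm hn]

/-- the element of the centraliser with code `n` -/
noncomputable def mk (n : ℕ) : Hm := if h : okH n = true then ⟨sl n, sl_mem h⟩ else 1

theorem coe_mk {n : ℕ} (hn : okH n = true) : (mk n : SL5) = sl n := by simp [mk, hn]

theorem mk_mul {a b : ℕ} (ha : okH a = true) (hb : okH b = true) : mk (mulN a b) = mk a * mk b := by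
  apply Subtype.ext
  rw [Subgroup.coe_mul, coe_mk ha, coe_mk hb, coe_mk (ok_mul ha hb), sl_mulN (ok_det ha) (ok_det hb)]

theorem mk_inj {a b : ℕ} (ha : okH a = true) (hb : okH b = true) (h : mk a = mk b) : a = b := by
  have h1 := congrArg (fun x : Hm => ((x : SL5) : M5)) h
  simp only [coe_mk ha, coe_mk hb, coe_sl (ok_det ha), coe_sl (ok_det hb)] at h1
  exact mat_inj (ok_lt ha) (ok_lt hb) h1

theorem exists_mk (h : Hm) : ∃ n, okH n = true ∧ mk n = h := by
  obtain ⟨n, h1, h2, h3⟩ := exists_sl h
  have h4 := Subgroup.mem_centralizer_singleton_iff.1 h.2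
  have h5 := congrArg (fun x : SL5 => (x : M5)) h4
  simp only [Matrix.SpecialLinearGroup.coe_mul, ← h3, coe_sl h2, coe_sl (ok_det ok_cz)] at h5
  have h6 := ok_of h1 h2 h5
  exact ⟨n, h6, Subtype.ext (by rw [coe_mk h6, h3])⟩

theorem mk_cI : mk cI = 1 := Subtype.ext (by rw [coe_mk ok_cI, sl_cI]; rfl)

attribute [irreducible] mk

end Cfsg.Agent.H24.He
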